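import Groth.Agent.S9501
import Groth.Agent.KFlatLib.Scheme.PullTensor
import Groth.Agent.QCoh.Stalk
import Groth.Agent.QCoh.Sections
import Groth.Agent.DimFormula.DedekindFlat
import Groth.Prelude.Def_FlatMod2

/-!
# Modules flat over a base of dimension one and the generic fibre
-/

set_option autoImplicit false
set_option maxHeartbeats 1000000
set_option synthInstance.maxHeartbeats 400000
set_option linter.style.haveILetI false
set_option backward.isDefEq.respectTransparency false
set_option backward.isDefEq.respectTransparency.types false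

universe u

open CategoryTheory CategoryTheory.Limits AlgebraicGeometry TopologicalSpace Opposite IsLocalRing

namespace Groth.Agent.GenQuot5

variable {X Y : Scheme.{u}}

/-- The unit of the pullback along a morphism inducing a bijection of local rings detects zero germs. -/
theorem germ_eq_zero_of_pb {Z : Scheme.{u}} (i : Z ⟶ X) (z : Z) (hσ : Function.Bijective (i.stalkMap z).hom)
    {M : X.Modules} {U : X.Opens} (hz : i z ∈ U) (s : Γ(M, U))
    (h : ((Scheme.Modules.pullback i).obj M).presheaf.germ (i ⁻¹ᵁ U) z hz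
      (((Scheme.Modules.pullbackPushforwardAdjunction i).unit.app M).app U s) = 0) :
    M.presheaf.germ U (i z) hz s = 0 := by
  let S := (DerSch.stalkFunctor X (i z)).obj M
  have e := KFlatLib.stalkPullbackIso_gm i z M U hz s
  have h0 : KFlatLib.u1 (i.stalkMap z).hom S (M.presheaf.germ U (i z) hz s) = 0 := by
    refine e.symm.trans ((congrArg _ h).trans ?_)
    exact map_zero _
  letI := (i.stalkMap z).hom.toAlgebra
  let σ : X.presheaf.stalk (i z) ≃ₗ[X.presheaf.stalk (i z)] Z.presheaf.stalk z :=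
    LinearEquiv.ofBijective (Algebra.linearMap (X.presheaf.stalk (i z)) (Z.presheaf.stalk z)) hσ
  let m : S := M.presheaf.germ U (i z) hz s
  show m = 0
  have h1 : (1 : Z.presheaf.stalk z) ⊗ₜ[X.presheaf.stalk (i z)] m = 0 := h0
  have h2 : (1 : X.presheaf.stalk (i z)) ⊗ₜ[X.presheaf.stalk (i z)] m = 0 := by
    apply (TensorProduct.congr σ (LinearEquiv.refl (X.presheaf.stalk (i z)) S)).injective
    rw [map_zero, TensorProduct.congr_tmul]
    show σ 1 ⊗ₜ m = 0
    rw [show σ (1 : X.presheaf.stalk (i z)) = 1 from map_one (i.stalkMap z).hom]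
    exact h1
  have h3 := congrArg (TensorProduct.lid (X.presheaf.stalk (i z)) S) h2
  simpa using h3

/-- Over an integral base the stalks of the generic fibre are the local rings of the total space. -/
theorem bijective_stalkMap_fiberι [IsIntegral Y] (f : X ⟶ Y) (z : ↥(f.fiber (genericPoint Y))) :
    Function.Bijective ((f.fiberι (genericPoint Y)).stalkMap z).hom := by
  refine ⟨(RingHom.injective_iff_ker_eq_bot _).2 ?_, (S9501.result f _ z).1⟩
  rw [(S9501.result f _ z).2]
  have hfld : ∀ t : Y, t = genericPoint Y → IsField (Y.presheaf.stalk t) := by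
    rintro t rfl
    exact Field.toIsField Y.functionField
  have hη : f (f.fiberι (genericPoint Y) z) = genericPoint Y := by
    have : f.fiberι (genericPoint Y) z ∈ Set.range (f.fiberι (genericPoint Y)) := ⟨z, rfl⟩
    rwa [Scheme.Hom.range_fiberι] at this
  rw [IsLocalRing.isField_iff_maximalIdeal_eq.1 (hfld _ hη), Ideal.map_bot]

/-- A section vanishing on the generic fibre is torsion at each point. -/
theorem exists_smul_germ_eq_zero [IsIntegral Y] (f : X ⟶ Y) {M : X.Modules} (hM : Coh.IsQCoh M) {U : X.Opens}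
    (s : Γ(M, U)) (h : ∀ x (hx : x ∈ U), f x = genericPoint Y → M.presheaf.germ U x hx s = 0) {x : X} (hx : x ∈ U) :
    ∃ t : Y.presheaf.stalk (f x), t ≠ 0 ∧ (f.stalkMap x).hom t • M.presheaf.germ U x hx s = 0 := by
  obtain ⟨_, ⟨V, hV, rfl⟩, hxV, -⟩ :=
    Y.isBasis_affineOpens.exists_subset_of_mem_open (Set.mem_univ (f x)) isOpen_univ
  obtain ⟨_, ⟨W, hW, rfl⟩, hxW, hWle⟩ :=
    X.isBasis_affineOpens.exists_subset_of_mem_open (show x ∈ (U ⊓ f ⁻¹ᵁ V : X.Opens) from ⟨hx, hxV⟩)
      (U ⊓ f ⁻¹ᵁ V).2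
  have hWU : W ≤ U := fun y hy => (hWle hy).1
  have hle : W ≤ f ⁻¹ᵁ V := fun y hy => (hWle hy).2
  haveI : Nonempty V := ⟨⟨f x, hxV⟩⟩
  let φ : Γ(Y, V) →+* Γ(X, W) := (f.appLE V W hle).hom
  let m : Γ(M, W) := M.presheaf.map (homOfLE hWU).op s
  let J : Ideal Γ(X, W) := (⊥ : Submodule Γ(X, W) Γ(M, W)).colon {m}
  let T : Submonoid Γ(X, W) := (nonZeroDivisors Γ(Y, V)).map φ
  by_contra hne
  push Not at hne
  have hdis : Disjoint (J : Set Γ(X, W)) (T : Set Γ(X, W)) := Set.disjoint_left.2 fun b hbJ hbT => by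
    obtain ⟨a, ha, rfl⟩ := hbT
    have hb : φ a • m = 0 := by simpa [J, Submodule.mem_colon_singleton] using hbJ
    refine hne (Y.presheaf.germ V (f x) hxV a) ?_ ?_
    · intro h0
      exact nonZeroDivisors.ne_zero ha (germ_injective_of_isIntegral Y (f x) hxV (h0.trans (map_zero _).symm))
    · have h1 := congrArg (M.presheaf.germ W x hxW) hb
      rw [map_zero, QCoh.germ_smul', M.presheaf.germ_res_apply (homOfLE hWU) x hxW s] at h1
      rw [show (f.stalkMap x).hom (Y.presheaf.germ V (f x) hxV a) = X.presheaf.germ W x hxW (φ a) from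
        (Scheme.Hom.germ_stalkMap_apply f V x hxV a).trans
          (X.presheaf.germ_res_apply (homOfLE hle) x hxW _).symm]
      exact h1
  obtain ⟨P, hP, hJP, hPT⟩ := Ideal.exists_le_prime_disjoint J T hdis
  let p : PrimeSpectrum Γ(X, W) := ⟨P, hP⟩
  let y := hW.fromSpec p
  have hyW : y ∈ W := (IsAffineOpen.range_fromSpec hW).le ⟨p, rfl⟩
  have hfy : f y = genericPoint Y := by
    have e : f y = hV.fromSpec (PrimeSpectrum.comap φ p) := by
      show (hW.fromSpec ≫ f) p = _
      rw [← IsAffineOpen.SpecMap_appLE_fromSpec f hV hW hle]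
      rfl
    have hbot : PrimeSpectrum.comap φ p = hV.primeIdealOf ⟨genericPoint Y,
        ((genericPoint_spec Y).mem_open_set_iff V.isOpen).2 ⟨f x, trivial, hxV⟩⟩ := by
      rw [hV.primeIdealOf_genericPoint, genericPoint_eq_bot_of_affine]
      refine PrimeSpectrum.ext ((Submodule.eq_bot_iff _).2 fun a ha => ?_)
      by_contra ha0
      exact Set.disjoint_left.1 hPT ha ⟨a, mem_nonZeroDivisors_of_ne_zero ha0, rfl⟩
    rw [e, hbot, hV.fromSpec_primeIdealOf]
  have hgy : M.presheaf.germ W y hyW m = 0 := by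
    rw [M.presheaf.germ_res_apply (homOfLE hWU) y hyW s]
    exact h y (hWU hyW) hfy
  letI := QCoh.stalkModule M hyW
  haveI := QCoh.isLocalizedModule_germLin hM hW hyW
  obtain ⟨b, hb⟩ := (IsLocalizedModule.eq_zero_iff (hW.primeIdealOf ⟨y, hyW⟩).asIdeal.primeCompl (QCoh.germLin M hyW)).1 hgy
  have hpy : hW.primeIdealOf ⟨y, hyW⟩ = p :=
    hW.fromSpec.isOpenEmbedding.injective (hW.fromSpec_primeIdealOf ⟨y, hyW⟩)
  refine b.2 ?_
  show b.1 ∈ (hW.primeIdealOf ⟨y, hyW⟩).asIdeal
  refine (congrArg PrimeSpectrum.asIdeal hpy).ge ?_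
  have hb' : (b.1 : Γ(X, W)) • m = 0 := hb
  exact hJP (by simpa [J, Submodule.mem_colon_singleton] using hb')

/-- Flatness over a regular base of dimension at most one from torsion-freeness. -/
theorem isFlatOverAt_of_torsionFree [IsIntegral Y]
    (hY : ∀ y : Y, IsRegularLocalRing (Y.presheaf.stalk y) ∧ ringKrullDim (Y.presheaf.stalk y) ≤ 1)
    (f : X ⟶ Y) (M : X.Modules) (x : X)
    (h : ∀ (t : Y.presheaf.stalk (f x)) (g : M.presheaf.stalk x), t ≠ 0 → (f.stalkMap x).hom t • g = 0 → g = 0) :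
    FlatMod.IsFlatOverAt f M x := by
  haveI := (hY (f x)).1
  haveI := DimFormula.isPrincipalIdealRing_of_regular_dim_le_one (hY (f x)).2
  letI := FlatMod.moduleStalkOver f M x
  show Module.Flat (Y.presheaf.stalk (f x)) (M.presheaf.stalk x)
  rw [Module.Flat.flat_iff_torsion_eq_bot_of_isBezout, eq_bot_iff]
  rintro g ⟨⟨t, ht⟩, htg⟩
  exact h t g (nonZeroDivisors.ne_zero ht) htg

/-- A flat module is torsion-free. -/
theorem eq_zero_of_isFlatOverAt [IsIntegral Y] (f : X ⟶ Y) {M : X.Modules} {x : X}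
    (hM : FlatMod.IsFlatOverAt f M x) {t : Y.presheaf.stalk (f x)} (ht : t ≠ 0) {g : M.presheaf.stalk x}
    (h : (f.stalkMap x).hom t • g = 0) : g = 0 := by
  letI := FlatMod.moduleStalkOver f M x
  haveI : Module.Flat (Y.presheaf.stalk (f x)) (M.presheaf.stalk x) := hM
  exact (smul_eq_zero.1 (show t • g = 0 from h)).resolve_left ht

/-- A flat quasi-coherent module injects into the direct image of its generic fibre. -/
theorem mono_unit [IsIntegral Y] (f : X ⟶ Y) {M : X.Modules} (hM : Coh.IsQCoh M) (hflat : FlatMod.IsFlatOver f M) :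
    Mono ((Scheme.Modules.pullbackPushforwardAdjunction (f.fiberι (genericPoint Y))).unit.app M) := by
  refine QCoh.mono_of_app_injective _ fun U => (injective_iff_map_eq_zero _).2 fun s hs => ?_
  refine TopCat.Presheaf.section_ext ⟨M.presheaf, M.isSheaf⟩ U s 0 fun x hx => ?_
  show M.presheaf.germ U x hx s = M.presheaf.germ U x hx 0
  rw [map_zero]
  obtain ⟨t, ht, htg⟩ := exists_smul_germ_eq_zero f hM s (fun y hy hfy => by
    obtain ⟨z, rfl⟩ : y ∈ Set.range (f.fiberι (genericPoint Y)) := by rw [Scheme.Hom.range_fiberι]; exact hfy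
    refine germ_eq_zero_of_pb _ z (bijective_stalkMap_fiberι f z) hy s ?_
    exact (congrArg _ hs).trans (map_zero _)) hx
  exact eq_zero_of_isFlatOverAt f (hflat x) ht htg

end Groth.Agent.GenQuot5
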